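import Mathlib

/-!
# Doubly transitive groups with an involution whose centraliser has constant fixity

`t` is an involution fixing `i` points and each non-identity element of its centraliser fixes
exactly `i` points.  Counting the pairs swapped by conjugates of `t` gives `|Ω| = i + |C(t)|`,
hence every element swapping two points is a conjugate of `t`, and the two-point stabilisers are
abelian and inverted by every such element.
-/

set_option autoImplicit false
set_option linter.style.haveILetI false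

namespace CfsgLib.Perm.InvolutionFixity

open MulAction Subgroup

variable {G Ω : Type*} [Group G] [MulAction G Ω]

/-- The number of fixed points. -/
noncomputable def nfix (Ω : Type*) {G : Type*} [Group G] [MulAction G Ω] (g : G) : ℕ :=
  Nat.card {x : Ω // g • x = x}

theorem nfix_conj (c g : G) : nfix Ω (c * g * c⁻¹) = nfix Ω g := by
  unfold nfix
  refine Nat.card_congr ((MulAction.toPerm c⁻¹).subtypeEquiv fun x => ?_)
  simp only [MulAction.toPerm_apply, mul_smul]
  constructor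
  · intro h
    conv_rhs => rw [← h]
    rw [inv_smul_smul]
  · intro h
    rw [h, smul_inv_smul]

theorem nfix_of_isConj {g h : G} (hc : IsConj g h) : nfix Ω h = nfix Ω g := by
  obtain ⟨c, rfl⟩ := isConj_iff.1 hc
  exact nfix_conj c g

theorem fix_subset [Finite Ω] {g h : G} (hcard : nfix Ω g = nfix Ω h)
    (hsub : ∀ x : Ω, g • x = x → h • x = x) : ∀ x : Ω, h • x = x → g • x = x := by
  have e : ({x : Ω | g • x = x} : Set Ω) = {x | h • x = x} := by
    refine Set.eq_of_subset_of_ncard_le hsub ?_ (Set.toFinite _)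
    unfold nfix at hcard
    rw [← Nat.card_coe_set_eq, ← Nat.card_coe_set_eq]
    exact hcard.ge
  exact fun x hx => ((Set.ext_iff.1 e x).2 hx : x ∈ ({x : Ω | g • x = x} : Set Ω))

theorem two_le_nfix [Finite Ω] {g : G} {a b : Ω} (hab : a ≠ b) (ha : g • a = a) (hb : g • b = b) :
    2 ≤ nfix Ω g :=
  Finite.one_lt_card_iff_nontrivial.2 ⟨⟨⟨a, ha⟩, ⟨b, hb⟩, fun e => hab (congrArg Subtype.val e)⟩⟩

theorem three_le_nfix [Finite Ω] {g : G} {a b c : Ω} (hab : a ≠ b) (hac : a ≠ c) (hbc : b ≠ c)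
    (ha : g • a = a) (hb : g • b = b) (hc : g • c = c) : 3 ≤ nfix Ω g := by
  unfold nfix
  let f : Fin 3 → {x : Ω // g • x = x} := ![⟨a, ha⟩, ⟨b, hb⟩, ⟨c, hc⟩]
  have hf : Function.Injective f := by
    intro x y e
    fin_cases x <;> fin_cases y <;> simp_all [f, eq_comm]
  simpa using Nat.card_le_card_of_injective f hf

/-- The hypotheses. -/
structure Setting (G Ω : Type*) [Group G] [MulAction G Ω] where
  t : G
  i : ℕ
  h2 : IsMultiplyPretransitive G Ω 2
  ht : orderOf t = 2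
  hti : nfix Ω t = i
  hC : ∀ g : G, Commute g t → g ≠ 1 → nfix Ω g = i

namespace Setting

variable (S : Setting G Ω)
include S

/-- The centraliser of the involution. -/
abbrev C : Subgroup G := centralizer ({S.t} : Set G)

theorem mem_C {g : G} : g ∈ S.C ↔ Commute g S.t := mem_centralizer_singleton_iff

theorem t_sq : S.t * S.t = 1 := by rw [← sq, ← S.ht, pow_orderOf_eq_one]

theorem t_ne : S.t ≠ 1 := fun h => by
  have := S.ht
  rw [h, orderOf_one] at this
  omega

theorem transport {a b c e : Ω} (hab : a ≠ b) (hce : c ≠ e) :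
    ∃ g : G, g • a = c ∧ g • b = e :=
  is_two_pretransitive_iff.1 S.h2 hab hce

theorem exists_moved [FaithfulSMul G Ω] : ∃ x : Ω, S.t • x ≠ x := by
  by_contra h
  push Not at h
  exact S.t_ne (eq_of_smul_eq_smul (α := Ω) fun x => by rw [h x, one_smul])

theorem t_smul_smul (x : Ω) : S.t • S.t • x = x := by rw [smul_smul, S.t_sq, one_smul]

variable [Finite G] [Finite Ω] [FaithfulSMul G Ω]

omit [Finite G] in
theorem fix_lt : S.i < Nat.card Ω := by
  obtain ⟨x, hx⟩ := S.exists_moved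
  rw [← S.hti]
  letI := Fintype.ofFinite Ω
  classical
  unfold nfix
  rw [Nat.card_eq_fintype_card, Nat.card_eq_fintype_card]
  exact Fintype.card_subtype_lt hx

/-- Burnside's orbit count in the centraliser. -/
theorem dvd_moved : Nat.card S.C ∣ Nat.card Ω - S.i := by
  classical
  letI := Fintype.ofFinite G
  letI := Fintype.ofFinite Ω
  letI : Fintype S.C := Fintype.ofFinite _
  letI : Fintype (MulAction.orbitRel.Quotient S.C Ω) := Fintype.ofFinite _
  have hb := MulAction.sum_card_fixedBy_eq_card_orbits_mul_card_group S.C Ω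
  rw [← Finset.add_sum_erase _ _ (Finset.mem_univ (1 : S.C))] at hb
  have h1 : Fintype.card (MulAction.fixedBy Ω (1 : S.C)) = Nat.card Ω := by
    rw [← Nat.card_eq_fintype_card, MulAction.fixedBy_one_eq_univ, Nat.card_univ]
  have h2 : ∀ g ∈ (Finset.univ : Finset S.C).erase 1,
      Fintype.card (MulAction.fixedBy Ω g) = S.i := by
    intro g hg
    rw [← Nat.card_eq_fintype_card]
    exact S.hC g (S.mem_C.1 g.2) fun e => (Finset.mem_erase.1 hg).1 (Subtype.ext e)
  rw [Finset.sum_congr rfl h2, h1, Finset.sum_const, Finset.card_erase_of_mem (Finset.mem_univ _),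
    Finset.card_univ, smul_eq_mul] at hb
  have hlt := S.fix_lt
  have hpos : 1 ≤ Fintype.card S.C := Fintype.card_pos
  rw [Nat.card_eq_fintype_card (α := S.C)]
  refine (Nat.dvd_add_left (a := Fintype.card S.C) (c := Fintype.card S.C * S.i)
    (dvd_mul_right _ _)).1 ?_
  refine ⟨Fintype.card (MulAction.orbitRel.Quotient S.C Ω), ?_⟩
  obtain ⟨k, hk⟩ := Nat.exists_eq_add_of_le hpos
  rw [hk] at hb ⊢
  rw [Nat.add_sub_cancel_left] at hb
  rw [mul_comm _ (Fintype.card (MulAction.orbitRel.Quotient S.C Ω)), ← hb]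
  rw [Nat.add_mul, one_mul]
  omega

/-- The counting argument. -/
theorem count : Nat.card Ω = S.i + Nat.card S.C ∧
    ∀ (g : G) (x : Ω), g • x ≠ x → g • g • x = x → IsConj S.t g := by
  classical
  letI := Fintype.ofFinite G
  letI := Fintype.ofFinite Ω
  obtain ⟨a, ha⟩ := S.exists_moved
  let B := {p : G × Ω // p.1 • p.2 ≠ p.2 ∧ p.1 • p.1 • p.2 = p.2}
  let A := {p : G × Ω // IsConj S.t p.1 ∧ p.1 • p.2 ≠ p.2}
  let P := {p : Ω × Ω // p.1 ≠ p.2}
  have hr : ∀ p : P, ∃ g : G, g • a = p.1.1 ∧ g • (S.t • a) = p.1.2 := fun p =>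
    S.transport (Ne.symm ha) p.2
  choose r hr1 hr2 using hr
  have hne : ∀ g : G, g • a ≠ g • (S.t • a) := fun g e => ha (MulAction.injective g e).symm
  have hd : ∀ g : G, ∀ p : P, g • a = p.1.1 → g • (S.t • a) = p.1.2 →
      ((r p)⁻¹ * g) • a = a ∧ ((r p)⁻¹ * g) • (S.t • a) = S.t • a := fun g p h1 h2 =>
    ⟨by rw [mul_smul, h1, inv_smul_eq_iff, hr1], by rw [mul_smul, h2, inv_smul_eq_iff, hr2]⟩
  have toB_mem : ∀ (g : G) (p : P), g • a = p.1.1 → g • (S.t • a) = p.1.2 →
      (r p * S.t * ((r p)⁻¹ * g) * (r p)⁻¹) • p.1.1 = p.1.2 ∧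
      (r p * S.t * ((r p)⁻¹ * g) * (r p)⁻¹) • p.1.2 = p.1.1 := by
    intro g p h1 h2
    obtain ⟨e1, e2⟩ := hd g p h1 h2
    constructor
    · rw [mul_smul, inv_smul_eq_iff.2 (hr1 p).symm, mul_smul, e1, mul_smul, hr2]
    · rw [mul_smul, inv_smul_eq_iff.2 (hr2 p).symm, mul_smul, e2, mul_smul, S.t_smul_smul, hr1]
  let pr : G → P := fun g => ⟨(g • a, g • (S.t • a)), hne g⟩
  let toB : G → B := fun g =>
    ⟨(r (pr g) * S.t * ((r (pr g))⁻¹ * g) * (r (pr g))⁻¹, g • a), by
      obtain ⟨e1, e2⟩ := toB_mem g (pr g) rfl rfl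
      show _ • g • a ≠ g • a ∧ _ • _ • g • a = g • a
      rw [show g • a = (pr g).1.1 from rfl, e1]
      exact ⟨(pr g).2.symm, e2⟩⟩
  let toG : B → G := fun q =>
    r ⟨(q.1.2, q.1.1 • q.1.2), Ne.symm q.2.1⟩ * S.t *
      (r ⟨(q.1.2, q.1.1 • q.1.2), Ne.symm q.2.1⟩)⁻¹ * q.1.1 *
      r ⟨(q.1.2, q.1.1 • q.1.2), Ne.symm q.2.1⟩
  have hBG : Nat.card B = Nat.card G := by
    refine Nat.card_congr ⟨toG, toB, fun q => ?_, fun g => ?_⟩
    · obtain ⟨⟨u, x⟩, hux, huux⟩ := q
      set p : P := ⟨(x, u • x), Ne.symm hux⟩ with hp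
      have h1 : toG ⟨(u, x), hux, huux⟩ = r p * S.t * (r p)⁻¹ * u * r p := rfl
      have e1 : (r p * S.t * (r p)⁻¹ * u * r p) • a = x := by
        rw [mul_smul, hr1, mul_smul, mul_smul, show u • p.1.1 = p.1.2 from rfl,
          inv_smul_eq_iff.2 (hr2 p).symm, mul_smul, S.t_smul_smul, hr1]
      have e2 : (r p * S.t * (r p)⁻¹ * u * r p) • (S.t • a) = u • x := by
        rw [mul_smul, hr2, mul_smul, mul_smul, show u • p.1.2 = p.1.1 from huux,
          inv_smul_eq_iff.2 (hr1 p).symm, mul_smul, hr2]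
      have hpr : pr (toG ⟨(u, x), hux, huux⟩) = p := by
        refine Subtype.ext (Prod.ext ?_ ?_)
        · exact (congrArg (· • a) h1).trans e1
        · exact (congrArg (· • (S.t • a)) h1).trans e2
      refine Subtype.ext (Prod.ext ?_ ((congrArg (· • a) h1).trans e1))
      show r (pr _) * S.t * ((r (pr _))⁻¹ * _) * (r (pr _))⁻¹ = u
      rw [hpr, h1]
      have ht := S.t_sq
      calc r p * S.t * ((r p)⁻¹ * (r p * S.t * (r p)⁻¹ * u * r p)) * (r p)⁻¹
          = r p * (S.t * S.t) * (r p)⁻¹ * u := by group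
        _ = u := by rw [ht]; group
    · obtain ⟨e1, -⟩ := toB_mem g (pr g) rfl rfl
      have hp : (⟨((toB g).1.2, (toB g).1.1 • (toB g).1.2), Ne.symm (toB g).2.1⟩ : P) = pr g :=
        Subtype.ext (Prod.ext rfl e1)
      show r _ * S.t * (r _)⁻¹ * _ * r _ = g
      rw [hp]
      calc r (pr g) * S.t * (r (pr g))⁻¹ *
            (r (pr g) * S.t * ((r (pr g))⁻¹ * g) * (r (pr g))⁻¹) * r (pr g)
          = r (pr g) * (S.t * S.t) * (r (pr g))⁻¹ * g := by group
        _ = g := by rw [S.t_sq]; group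
  have hinv : ∀ u : G, IsConj S.t u → u * u = 1 := by
    intro u hu
    obtain ⟨c, rfl⟩ := isConj_iff.1 hu
    calc c * S.t * c⁻¹ * (c * S.t * c⁻¹) = c * (S.t * S.t) * c⁻¹ := by group
      _ = 1 := by rw [S.t_sq]; group
  let AB : A → B := fun q => ⟨q.1, q.2.2, by rw [smul_smul, hinv _ q.2.1, one_smul]⟩
  have hABi : Function.Injective AB := fun p q e =>
    Subtype.ext (congrArg (fun z : B => z.1) e)
  let K := {u : G // IsConj S.t u}
  have hAK : Nat.card A = Nat.card K * (Nat.card Ω - S.i) := by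
    let e : A ≃ Σ u : K, {x : Ω // ¬ (u : G) • x = x} :=
      { toFun := fun q => ⟨⟨q.1.1, q.2.1⟩, ⟨q.1.2, q.2.2⟩⟩
        invFun := fun s => ⟨(s.1.1, s.2.1), s.1.2, s.2.2⟩
        left_inv := fun q => rfl
        right_inv := fun s => rfl }
    rw [Nat.card_congr e, Nat.card_sigma, Finset.sum_congr rfl fun u _ => ?_, Finset.sum_const,
      Finset.card_univ, smul_eq_mul, ← Nat.card_eq_fintype_card]
    rw [Nat.card_eq_fintype_card, Fintype.card_subtype_compl, ← Nat.card_eq_fintype_card,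
      ← Nat.card_eq_fintype_card]
    congr 1
    exact (nfix_of_isConj u.2).trans S.hti
  have hK : Nat.card K * Nat.card S.C = Nat.card G := by
    have hc : ∀ u : K, ∃ g : G, g * S.t * g⁻¹ = u.1 := fun u => isConj_iff.1 u.2
    choose c hc using hc
    rw [← Nat.card_prod]
    refine Nat.card_congr
      ⟨fun p => c p.1 * p.2.1,
       fun g => (⟨g * S.t * g⁻¹, isConj_iff.2 ⟨g, rfl⟩⟩,
        ⟨(c ⟨g * S.t * g⁻¹, isConj_iff.2 ⟨g, rfl⟩⟩)⁻¹ * g, S.mem_C.2 ?_⟩), ?_, ?_⟩
    · have e := hc ⟨g * S.t * g⁻¹, isConj_iff.2 ⟨g, rfl⟩⟩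
      set y := c ⟨g * S.t * g⁻¹, isConj_iff.2 ⟨g, rfl⟩⟩
      show y⁻¹ * g * S.t = S.t * (y⁻¹ * g)
      calc y⁻¹ * g * S.t = y⁻¹ * (g * S.t * g⁻¹) * g := by group
        _ = y⁻¹ * (y * S.t * y⁻¹) * g := by rw [e]
        _ = S.t * (y⁻¹ * g) := by group
    · rintro ⟨u, z⟩
      have h1 : c u * z.1 * S.t * (c u * z.1)⁻¹ = u.1 := by
        rw [← hc u]
        calc c u * z.1 * S.t * (c u * z.1)⁻¹ = c u * (z.1 * S.t) * z.1⁻¹ * (c u)⁻¹ := by group
          _ = c u * (S.t * z.1) * z.1⁻¹ * (c u)⁻¹ := by rw [(S.mem_C.1 z.2).eq]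
          _ = _ := by group
      have h2 : (⟨c u * z.1 * S.t * (c u * z.1)⁻¹, isConj_iff.2 ⟨_, rfl⟩⟩ : K) = u :=
        Subtype.ext h1
      refine Prod.ext h2 (Subtype.ext ?_)
      show (c _)⁻¹ * (c u * z.1) = z.1
      rw [h2, inv_mul_cancel_left]
    · exact fun g => mul_inv_cancel_left _ _
  have hle := Nat.card_le_card_of_injective AB hABi
  rw [hAK, hBG, ← hK] at hle
  haveI : Nonempty K := ⟨⟨S.t, IsConj.refl _⟩⟩
  have hKpos : 0 < Nat.card K := Nat.card_pos
  have hle' : Nat.card Ω - S.i ≤ Nat.card S.C := Nat.le_of_mul_le_mul_left hle hKpos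
  have hlt := S.fix_lt
  have heq : Nat.card Ω - S.i = Nat.card S.C :=
    le_antisymm hle' (Nat.le_of_dvd (by omega) S.dvd_moved)
  have hcard : Nat.card A = Nat.card B := by rw [hAK, hBG, ← hK, heq]
  have hbij := (Nat.bijective_iff_injective_and_card AB).2 ⟨hABi, hcard⟩
  refine ⟨by omega, fun g x hgx hggx => ?_⟩
  obtain ⟨q, hq⟩ := hbij.2 ⟨(g, x), hgx, hggx⟩
  have : q.1 = (g, x) := congrArg (fun z : B => z.1) hq
  have h := q.2.1
  rw [this] at h
  exact h

theorem swap_conj {g : G} {x : Ω} (hgx : g • x ≠ x) (hggx : g • g • x = x) : IsConj S.t g :=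
  S.count.2 g x hgx hggx

theorem swap_sq {g : G} {x : Ω} (hgx : g • x ≠ x) (hggx : g • g • x = x) : g * g = 1 := by
  obtain ⟨c, rfl⟩ := isConj_iff.1 (S.swap_conj hgx hggx)
  calc c * S.t * c⁻¹ * (c * S.t * c⁻¹) = c * (S.t * S.t) * c⁻¹ := by group
    _ = 1 := by rw [S.t_sq]; group

/-- A swapping element inverts the stabiliser of the two points. -/
theorem swap_inv {g d : G} {x : Ω} (hgx : g • x ≠ x) (hggx : g • g • x = x) (hdx : d • x = x)
    (hdg : d • g • x = g • x) : g * d * g = d⁻¹ := by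
  have h1 : (g * d) • x = g • x := by rw [mul_smul, hdx]
  have h2 : (g * d) * (g * d) = 1 := by
    refine S.swap_sq (x := x) (by rw [h1]; exact hgx) ?_
    rw [h1, mul_smul, hdg, hggx]
  exact eq_inv_of_mul_eq_one_left (by rw [mul_assoc]; exact h2)

theorem exists_swap {a b : Ω} (hab : a ≠ b) : ∃ g : G, g • a = b ∧ g • b = a :=
  S.transport hab hab.symm

/-- The stabiliser of two points is abelian. -/
theorem stab_comm {a b : Ω} (hab : a ≠ b) {d e : G} (hd : d • a = a) (hd' : d • b = b)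
    (he : e • a = a) (he' : e • b = b) : d * e = e * d := by
  obtain ⟨s, hs, hs'⟩ := S.exists_swap hab
  have hgx : s • a ≠ a := by rw [hs]; exact hab.symm
  have hggx : s • s • a = a := by rw [hs, hs']
  have hinv : ∀ z : G, z • a = a → z • b = b → s * z * s = z⁻¹ := fun z h1 h2 =>
    S.swap_inv hgx hggx h1 (by rw [hs, h2])
  have hss := S.swap_sq hgx hggx
  have h3 := hinv (d * e) (by rw [mul_smul, he, hd]) (by rw [mul_smul, he', hd'])
  have h4 : s * (d * e) * s = (s * d * s) * (s * e * s) := by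
    calc s * (d * e) * s = s * d * (1 : G) * e * s := by group
      _ = s * d * (s * s) * e * s := by rw [hss]
      _ = (s * d * s) * (s * e * s) := by group
  rw [h3, hinv d hd hd', hinv e he he', ← mul_inv_rev, inv_inj] at h4
  exact h4

/-- All involutions are conjugate. -/
theorem invol_conj {u : G} (hu : u * u = 1) (hu1 : u ≠ 1) : IsConj S.t u := by
  obtain ⟨x, hx⟩ : ∃ x : Ω, u • x ≠ x := by
    by_contra h
    push Not at h
    exact hu1 (eq_of_smul_eq_smul (α := Ω) fun x => by rw [h x, one_smul])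
  exact S.swap_conj hx (by rw [smul_smul, hu, one_smul])

theorem nfix_invol {u : G} (hu : u * u = 1) (hu1 : u ≠ 1) : nfix Ω u = S.i := by
  rw [nfix_of_isConj (S.invol_conj hu hu1), S.hti]

end Setting

end CfsgLib.Perm.InvolutionFixity
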