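import Mathlib
import Cfsg.Agent.Lib.Perm.InvolutionFixity.Basic

/-!
# At least two fixed points

If the involution fixes at least two points then it fixes exactly two and no non-identity element
fixes three points.
-/

set_option autoImplicit false
set_option linter.style.haveILetI false

namespace CfsgLib.Perm.InvolutionFixity

open MulAction Subgroup

variable {G Ω : Type*} [Group G] [MulAction G Ω]

namespace Setting

variable (S : Setting G Ω)
include S
variable [Finite G] [Finite Ω] [FaithfulSMul G Ω]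

theorem exists_pair (hi : 2 ≤ S.i) : ∃ a b : Ω, a ≠ b ∧ S.t • a = a ∧ S.t • b = b := by
  rw [← S.hti] at hi
  obtain ⟨⟨a, ha⟩, ⟨b, hb⟩, hab⟩ := Finite.one_lt_card_iff_nontrivial.1 hi
  exact ⟨a, b, fun e => hab (Subtype.ext e), ha, hb⟩

/-- Two-point stabilisers of fixed points of the involution lie in its centraliser. -/
theorem stab_le_C {a b : Ω} (hab : a ≠ b) (ha : S.t • a = a) (hb : S.t • b = b) {d : G}
    (hda : d • a = a) (hdb : d • b = b) : Commute d S.t :=
  S.stab_comm hab hda hdb ha hb

theorem nfix_stab (hi : 2 ≤ S.i) {a b : Ω} (hab : a ≠ b) {d : G} (hd : d ≠ 1) (hda : d • a = a)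
    (hdb : d • b = b) : nfix Ω d = S.i := by
  obtain ⟨f, f', hf, hf1, hf2⟩ := S.exists_pair hi
  obtain ⟨g, hg1, hg2⟩ := S.transport hf hab
  have h1 : (g⁻¹ * d * g) • f = f := by rw [mul_smul, mul_smul, hg1, hda, inv_smul_eq_iff, hg1]
  have h2 : (g⁻¹ * d * g) • f' = f' := by rw [mul_smul, mul_smul, hg2, hdb, inv_smul_eq_iff, hg2]
  have h := S.hC _ (S.stab_le_C hf hf1 hf2 h1 h2) fun e => hd (by
    calc d = g * (g⁻¹ * d * g) * g⁻¹ := by group
      _ = 1 := by rw [e]; group)
  rw [← h, ← nfix_conj g⁻¹ d, inv_inv]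

/-- An element of the centraliser moving a fixed point of the involution is an involution. -/
theorem moving_sq {x : G} (hx : Commute x S.t) {f : Ω} (hf : S.t • f = f) (hxf : x • f ≠ f) :
    x * x = 1 := by
  by_contra hne
  have hx1 : x ≠ 1 := fun e => hne (by rw [e, one_mul])
  have hxt1 : S.t * x ≠ 1 := fun e => hxf (by
    have : x = S.t := (eq_inv_of_mul_eq_one_right e).trans (inv_eq_of_mul_eq_one_right S.t_sq)
    rw [this, hf])
  have hfx := S.hC x hx hx1
  have hfy := S.hC (x * x) (hx.mul_left hx) hne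
  have htx : Commute (S.t * x) S.t := (Commute.refl _).mul_left hx
  have hftx := S.hC (S.t * x) htx hxt1
  have e : S.t * x * (S.t * x) = x * x := by
    calc S.t * x * (S.t * x) = S.t * (x * S.t) * x := by group
      _ = S.t * (S.t * x) * x := by rw [hx.eq]
      _ = x * x := by rw [← mul_assoc S.t S.t x, S.t_sq, one_mul]
  have h1 : ∀ z : Ω, (x * x) • z = z → x • z = z :=
    fix_subset (hfx.trans hfy.symm) fun z hz => by rw [mul_smul, hz, hz]
  have h2 : ∀ z : Ω, (x * x) • z = z → (S.t * x) • z = z :=
    fix_subset (hftx.trans hfy.symm) fun z hz => by rw [← e, mul_smul, hz, hz]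
  have h3 : ∀ z : Ω, x • z = z → S.t • z = z := fun z hz => by
    have := h2 z (by rw [mul_smul, hz, hz])
    rwa [mul_smul, hz] at this
  exact hxf (fix_subset (hfx.trans S.hti.symm) h3 f hf)

/-- The set of points fixed by the stabiliser of two points. -/
def line (Ω : Type*) {G : Type*} [Group G] [MulAction G Ω] (a b : Ω) : Set Ω :=
  {z | ∀ d : G, d • a = a → d • b = b → d • z = z}

omit S [Finite G] [Finite Ω] [FaithfulSMul G Ω] in
theorem smul_line (g : G) {a b z : Ω} (h : z ∈ line (G := G) Ω a b) :
    g • z ∈ line (G := G) Ω (g • a) (g • b) := by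
  intro d h1 h2
  have h3 := h (g⁻¹ * d * g) (by rw [mul_smul, mul_smul, h1, inv_smul_smul])
    (by rw [mul_smul, mul_smul, h2, inv_smul_smul])
  rwa [mul_smul, mul_smul, inv_smul_eq_iff] at h3

/-- There are no three fixed points. -/
theorem i_le_two : S.i ≤ 2 := by
  classical
  by_contra hcon
  have hi : 3 ≤ S.i := by omega
  haveI : Fact (Nat.Prime 2) := ⟨Nat.prime_two⟩
  let F := {z : Ω // S.t • z = z}
  letI := Fintype.ofFinite Ω
  obtain ⟨f1, f2, h12, hf1, hf2⟩ := S.exists_pair (by omega)
  obtain ⟨f3, hf3, h31, h32⟩ : ∃ f3 : Ω, S.t • f3 = f3 ∧ f3 ≠ f1 ∧ f3 ≠ f2 := by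
    by_contra h
    push Not at h
    have : nfix Ω S.t ≤ 2 := by
      unfold nfix
      let ψ : {z : Ω // S.t • z = z} → Bool := fun z => decide (z.1 = f1)
      have hψ : Function.Injective ψ := by
        rintro ⟨z, hz⟩ ⟨w, hw⟩ e
        refine Subtype.ext ?_
        simp only [ψ, decide_eq_decide] at e
        by_cases hz1 : z = f1
        · exact hz1.trans (e.1 hz1).symm
        · exact (h z hz hz1).trans (h w hw (fun hw1 => hz1 (e.2 hw1))).symm
      simpa using Nat.card_le_card_of_injective ψ hψ
    rw [S.hti] at this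
    omega
  -- swappers of fixed points centralise `t`
  have hswap : ∀ {a b : Ω}, a ≠ b → S.t • a = a → S.t • b = b →
      ∃ x : G, Commute x S.t ∧ x • a = b ∧ x • b = a ∧ x * x = 1 := by
    intro a b hab ha hb
    obtain ⟨x, hx1, hx2⟩ := S.exists_swap hab
    have hgx : x • a ≠ a := by rw [hx1]; exact hab.symm
    have hggx : x • x • a = a := by rw [hx1, hx2]
    have hsq := S.swap_sq hgx hggx
    have hinv := S.swap_inv hgx hggx ha (by rw [hx1, hb])
    rw [inv_eq_of_mul_eq_one_right S.t_sq] at hinv
    refine ⟨x, ?_, hx1, hx2, hsq⟩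
    show x * S.t = S.t * x
    calc x * S.t = x * S.t * (x * x) := by rw [hsq, mul_one]
      _ = (x * S.t * x) * x := by group
      _ = S.t * x := by rw [hinv]
  obtain ⟨x, hxc, hx1, hx2, hxx⟩ := hswap h12 hf1 hf2
  obtain ⟨y, hyc, hy1, hy3, hyy⟩ := hswap h31.symm hf1 hf3
  have hxym : (x * y) • f1 ≠ f1 := by
    rw [mul_smul, hy1]
    intro e
    rw [← hx2] at e
    exact h32 (MulAction.injective x e)
  have hxy2 : x * y * (x * y) = 1 := S.moving_sq (hxc.mul_left hyc) hf1 hxym
  -- every element of the centraliser squares to one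
  have hexp : ∀ c : G, Commute c S.t → c * c = 1 := by
    intro c hc
    by_cases hmove : ∃ f : Ω, S.t • f = f ∧ c • f ≠ f
    · obtain ⟨f, hf, hcf⟩ := hmove
      exact S.moving_sq hc hf hcf
    · push Not at hmove
      have inv : ∀ z : G, Commute z S.t → z * z = 1 → z • f1 ≠ f1 → z * c * z = c⁻¹ := by
        intro z hz hzz hzf
        have h := S.moving_sq (hz.mul_left hc) hf1 (by rw [mul_smul, hmove f1 hf1]; exact hzf)
        exact eq_inv_of_mul_eq_one_left (by rw [mul_assoc]; exact h)
      have a1 := inv x hxc hxx (by rw [hx1]; exact h12.symm)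
      have a2 := inv y hyc hyy (by rw [hy1]; exact h31)
      have a3 := inv (x * y) (hxc.mul_left hyc) hxy2 hxym
      have hyx : x * y = y * x := by
        calc x * y = (x * y) * (x * y) * (y * x) := by
              calc x * y = x * y * (x * (y * y) * x) := by rw [hyy, mul_one, hxx, mul_one]
                _ = _ := by group
          _ = y * x := by rw [hxy2, one_mul]
      have a4 : x * y * c * (y * x) = c := by
        have e1 : x * c⁻¹ * x = c := by
          have hxi : x⁻¹ = x := inv_eq_of_mul_eq_one_right hxx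
          have := congrArg (·⁻¹) a1
          simp only [mul_inv_rev, inv_inv, hxi] at this
          rw [mul_assoc]
          exact this
        calc x * y * c * (y * x) = x * (y * c * y) * x := by group
          _ = c := by rw [a2, e1]
      rw [← hyx, a3] at a4
      calc c * c = c⁻¹ * c := by nth_rewrite 1 [← a4]; rfl
        _ = 1 := inv_mul_cancel c
  -- hence an element of the centraliser fixing one fixed point fixes all of them
  have hfixall : ∀ c : G, Commute c S.t → c • f1 = f1 → ∀ z : Ω, S.t • z = z → c • z = z := by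
    intro c hc hcf z hz
    rcases eq_or_ne z f1 with rfl | hzf
    · exact hcf
    obtain ⟨w, hwc, hw, -, hww⟩ := hswap hzf.symm hf1 hz
    have h := hexp (c * w) (hc.mul_left hwc)
    have hcw : c * w = w * c := by
      calc c * w = c * w * ((c * c) * 1) := by rw [hexp c hc, one_mul, mul_one]
        _ = c * w * (c * (w * w) * c) := by rw [hww]; group
        _ = (c * w * (c * w)) * (w * c) := by group
        _ = w * c := by rw [h, one_mul]
    rw [← hw, ← mul_smul, hcw, mul_smul, hcf]
  have hline : line (G := G) Ω f1 f2 = {z | S.t • z = z} := by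
    ext z
    constructor
    · exact fun h => h S.t hf1 hf2
    · exact fun hz d hd1 hd2 => hfixall d (S.stab_le_C h12 hf1 hf2 hd1 hd2) hd1 z hz
  -- the fixed point set is an orbit of the centraliser
  have hq : S.i ∣ Nat.card S.C := by
    have horb : MulAction.orbit S.C f1 = {z | S.t • z = z} := by
      ext z
      constructor
      · rintro ⟨c, rfl⟩
        show S.t • (c : G) • f1 = (c : G) • f1
        rw [smul_smul, ← (S.mem_C.1 c.2).eq, mul_smul, hf1]
      · intro hz
        rcases eq_or_ne z f1 with rfl | hzf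
        · exact MulAction.mem_orbit_self _
        obtain ⟨w, hwc, hw, -, -⟩ := hswap hzf.symm hf1 hz
        exact ⟨⟨w, S.mem_C.2 hwc⟩, hw⟩
    have h := MulAction.index_stabilizer S.C f1
    rw [horb, ← Nat.card_coe_set_eq] at h
    rw [show S.i = (stabilizer S.C f1).index from (h.trans S.hti).symm]
    exact Subgroup.index_dvd_card _
  have hP : IsPGroup 2 S.C := fun c => ⟨1, by
    rw [pow_one, sq]
    exact Subtype.ext (hexp c.1 (S.mem_C.1 c.2))⟩
  obtain ⟨m, hm⟩ := IsPGroup.iff_card.1 hP
  -- the lines through a point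
  let L : Ω → Finset Ω := fun b => Finset.univ.filter (· ∈ line (G := G) Ω f1 b)
  have hLmem : ∀ b z : Ω, z ∈ L b ↔ z ∈ line (G := G) Ω f1 b := fun b z => by simp [L]
  have hLcard : ∀ b, b ≠ f1 → (L b).card = S.i ∧ ∀ c ∈ L b, c ≠ f1 → L c = L b := by
    intro b hb
    obtain ⟨g, hg1, hg2⟩ := S.transport h12 hb.symm
    have hmem : ∀ z, z ∈ L b ↔ S.t • (g⁻¹ • z) = g⁻¹ • z := by
      intro z
      rw [hLmem]
      constructor
      · intro h
        have h' := smul_line g⁻¹ h
        rw [inv_smul_eq_iff.2 hg1.symm, inv_smul_eq_iff.2 hg2.symm, hline] at h'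
        exact h'
      · intro h
        have h' : g⁻¹ • z ∈ line (G := G) Ω f1 f2 := by rw [hline]; exact h
        have h'' := smul_line g h'
        rwa [hg1, hg2, smul_inv_smul] at h''
    refine ⟨?_, fun c hc hcf => ?_⟩
    · have hti := S.hti
      unfold nfix at hti
      rw [← hti, ← Nat.card_eq_finsetCard]
      exact Nat.card_congr ((MulAction.toPerm g⁻¹).subtypeEquiv fun z => hmem z)
    · have hfc : S.t • (g⁻¹ • c) = g⁻¹ • c := (hmem c).1 hc
      have hne : f1 ≠ g⁻¹ • c := fun e => hcf (by
        have := congrArg (g • ·) e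
        simp only [smul_inv_smul, hg1] at this
        exact this.symm)
      have hl : line (G := G) Ω f1 (g⁻¹ • c) = {z | S.t • z = z} := by
        ext z
        constructor
        · exact fun h => h S.t hf1 hfc
        · exact fun hz d hd1 hd2 => hfixall d (S.stab_le_C hne hf1 hfc hd1 hd2) hd1 z hz
      ext z
      rw [hLmem, hmem]
      constructor
      · intro h
        have h' := smul_line g⁻¹ h
        rwa [inv_smul_eq_iff.2 hg1.symm, hl] at h'
      · intro h
        have h' : g⁻¹ • z ∈ line (G := G) Ω f1 (g⁻¹ • c) := by rw [hl]; exact h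
        have h'' := smul_line g h'
        rwa [hg1, smul_inv_smul, smul_inv_smul] at h''
  have hself : ∀ b, f1 ∈ L b ∧ b ∈ L b := fun b =>
    ⟨(hLmem b f1).2 fun d h1 _ => h1, (hLmem b b).2 fun d _ h2 => h2⟩
  have hdiv : S.i - 1 ∣ Nat.card Ω - 1 := by
    have hs := Finset.card_eq_sum_card_image L (Finset.univ.erase f1)
    rw [Finset.card_erase_of_mem (Finset.mem_univ _), Finset.card_univ,
      ← Nat.card_eq_fintype_card] at hs
    rw [hs]
    refine Finset.dvd_sum fun l hl => ?_
    obtain ⟨b, hb, rfl⟩ := Finset.mem_image.1 hl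
    have hb' := (Finset.mem_erase.1 hb).1
    have e : (Finset.univ.erase f1).filter (fun c => L c = L b) = (L b).erase f1 := by
      ext c
      simp only [Finset.mem_filter, Finset.mem_erase, Finset.mem_univ, and_true]
      exact ⟨fun h => ⟨h.1, h.2 ▸ (hself c).2⟩, fun h => ⟨h.1, (hLcard b hb').2 c h.2 h.1⟩⟩
    rw [e, Finset.card_erase_of_mem (hself b).1, (hLcard b hb').1]
  rw [S.count.1, hm] at hdiv
  rw [hm] at hq
  obtain ⟨a, -, ha⟩ := (Nat.dvd_prime_pow Nat.prime_two).1 hq
  have hdiv' : S.i - 1 ∣ 2 ^ m := by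
    rw [show S.i + 2 ^ m - 1 = 2 ^ m + (S.i - 1) by omega] at hdiv
    exact (Nat.dvd_add_left dvd_rfl).1 hdiv
  obtain ⟨b, -, hb⟩ := (Nat.dvd_prime_pow Nat.prime_two).1 hdiv'
  rcases a with _ | a
  · omega
  rcases b with _ | b
  · omega
  rw [pow_succ] at ha hb
  omega

/-- In all cases with two or more fixed points, nothing fixes three points. -/
theorem free_of_two_le (hi : 2 ≤ S.i) {g : G} {a b c : Ω} (hab : a ≠ b) (hac : a ≠ c)
    (hbc : b ≠ c) (ha : g • a = a) (hb : g • b = b) (hc : g • c = c) : g = 1 := by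
  by_contra hg
  have h1 := S.nfix_stab hi hab hg ha hb
  have h2 := three_le_nfix hab hac hbc ha hb hc
  have h3 := S.i_le_two
  omega

end Setting

end CfsgLib.Perm.InvolutionFixity
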