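import Mathlib
import Cfsg.Agent.Lib.Perm.InvolutionFixity.Basic

/-!
# At most one fixed point

If the involution fixes at most one point then the two-point stabilisers have odd order, each of
their Sylow subgroups fixes exactly the two points, and no non-identity element fixes three points.
-/

set_option autoImplicit false
set_option linter.style.haveILetI false

namespace CfsgLib.Perm.InvolutionFixity

open MulAction Subgroup

variable {G Ω : Type*} [Group G] [MulAction G Ω]

namespace Setting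

variable (S : Setting G Ω)
include S
variable [Finite G] [Finite Ω] [FaithfulSMul G Ω] {p : ℕ} [hp : Fact p.Prime]

omit hp in
theorem odd_stab (hi : S.i ≤ 1) {a b : Ω} (hab : a ≠ b) {d : G} (hd1 : d ≠ 1) (hda : d • a = a)
    (hdb : d • b = b) : d * d ≠ 1 := fun h => by
  have h1 := S.nfix_invol h hd1
  have h2 := two_le_nfix hab hda hdb
  omega

/-- The Sylow `p`-subgroup of the stabiliser of two points. -/
def pPart (p : ℕ) {a b : Ω} (hab : a ≠ b) : Subgroup G where
  carrier := {d | d • a = a ∧ d • b = b ∧ ∃ k, d ^ (p ^ k) = 1}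
  one_mem' := ⟨one_smul _ _, one_smul _ _, 0, one_pow _⟩
  mul_mem' := by
    rintro d e ⟨hd, hd', k, hk⟩ ⟨he, he', l, hl⟩
    refine ⟨by rw [mul_smul, he, hd], by rw [mul_smul, he', hd'], k + l, ?_⟩
    rw [Commute.mul_pow (S.stab_comm hab hd hd' he he'), pow_add, pow_mul, hk, one_pow,
      mul_comm (p ^ k), pow_mul, hl, one_pow, one_mul]
  inv_mem' := by
    rintro d ⟨hd, hd', k, hk⟩
    exact ⟨inv_smul_eq_iff.2 hd.symm, inv_smul_eq_iff.2 hd'.symm, k, by rw [inv_pow, hk, inv_one]⟩

omit hp in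
theorem mem_pPart {a b : Ω} (hab : a ≠ b) {d : G} :
    d ∈ S.pPart p hab ↔ d • a = a ∧ d • b = b ∧ ∃ k, d ^ (p ^ k) = 1 := Iff.rfl

omit hp in
theorem isPGroup_pPart {a b : Ω} (hab : a ≠ b) : IsPGroup p (S.pPart p hab) := fun d => by
  obtain ⟨-, -, k, hk⟩ := d.2
  exact ⟨k, Subtype.ext (by rw [Subgroup.coe_pow, hk, Subgroup.coe_one])⟩

omit hp in
theorem card_pPart_eq {a b c e : Ω} (hab : a ≠ b) (hce : c ≠ e) :
    Nat.card (S.pPart p hab) = Nat.card (S.pPart p hce) := by
  obtain ⟨g, hga, hgb⟩ := S.transport hab hce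
  refine Nat.card_congr ((MulAut.conj g).toEquiv.subtypeEquiv fun d => ?_)
  show d ∈ S.pPart p hab ↔ g * d * g⁻¹ ∈ S.pPart p hce
  rw [mem_pPart, mem_pPart, ← hga, ← hgb]
  simp only [mul_smul, inv_smul_smul, smul_left_cancel_iff, conj_pow, conj_eq_one_iff]

omit hp in
theorem pPart_eq_of_fix {a b c e : Ω} (hab : a ≠ b) (hce : c ≠ e)
    (hc : ∀ d ∈ S.pPart p hab, d • c = c) (he : ∀ d ∈ S.pPart p hab, d • e = e) :
    S.pPart p hab = S.pPart p hce :=
  Subgroup.eq_of_le_of_card_ge (fun d hd => ⟨hc d hd, he d hd, hd.2.2⟩)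
    (S.card_pPart_eq hce hab).le

omit hp in
theorem swap_inv_pPart {a b : Ω} (hab : a ≠ b) {s : G} (hs : s • a = b) (hs' : s • b = a)
    {d : G} (hd : d ∈ S.pPart p hab) : s * d * s = d⁻¹ :=
  S.swap_inv (by rw [hs]; exact hab.symm) (by rw [hs, hs']) hd.1 (by rw [hs]; exact hd.2.1)

/-- If the Sylow subgroup of a two-point stabiliser fixes a third point then every element
swapping the two points fixes a point fixed by that Sylow subgroup. -/
theorem swap_fixed (hi : S.i ≤ 1) {a b x : Ω} (hab : a ≠ b) (hax : a ≠ x) (hbx : b ≠ x)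
    (hx : ∀ d ∈ S.pPart p hab, d • x = x) (hne : S.pPart p hab ≠ ⊥)
    {s : G} (hs : s • a = b) (hs' : s • b = a) :
    ∃ w : Ω, s • w = w ∧ ∀ d ∈ S.pPart p hab, d • w = w := by
  classical
  set P := S.pPart p hab with hP
  let Φ := {z : Ω // ∀ d ∈ P, d • z = z}
  letI := Fintype.ofFinite Φ
  have ha' : ∀ d ∈ P, d • a = a := fun d hd => hd.1
  have hb' : ∀ d ∈ P, d • b = b := fun d hd => hd.2.1
  have h3 : 3 ≤ Nat.card Φ := by
    let f : Fin 3 → Φ := ![⟨a, ha'⟩, ⟨b, hb'⟩, ⟨x, hx⟩]
    have hf : Function.Injective f := by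
      intro y z e
      have e' : (![a, b, x] : Fin 3 → Ω) y = ![a, b, x] z := by
        have := congrArg Subtype.val e
        fin_cases y <;> fin_cases z <;> exact this
      fin_cases y <;> fin_cases z <;> simp_all [eq_comm (a := b) (b := a), eq_comm (a := x)]
    simpa using Nat.card_le_card_of_injective f hf
  have hinv : ∀ {y z : Ω}, y ≠ z → (∀ d ∈ P, d • y = y) → (∀ d ∈ P, d • z = z) →
      ∀ {g : G}, g • y = z → g • z = y → ∀ d ∈ P, g * d * g = d⁻¹ := by
    intro y z hyz hy hz g hg hg' d hd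
    rw [hP, S.pPart_eq_of_fix hab hyz hy hz] at hd
    exact S.swap_inv_pPart hyz hg hg' hd
  have hsq : ∀ {y z : Ω}, y ≠ z → ∀ {g : G}, g • y = z → g • z = y → g * g = 1 := by
    intro y z hyz g hg hg'
    exact S.swap_sq (x := y) (by rw [hg]; exact hyz.symm) (by rw [hg, hg'])
  let Y := centralizer (P : Set G)
  have hY : ∀ y : Φ, ∃ g : Y, (g : G) • a = y.1 := by
    intro y
    obtain ⟨z, hza, hzy⟩ : ∃ z : Φ, z ≠ ⟨a, ha'⟩ ∧ z ≠ y := by
      by_contra h
      push Not at h
      have hsub : (Finset.univ : Finset Φ) ⊆ {⟨a, ha'⟩, y} := fun z _ => by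
        by_cases hz : z = ⟨a, ha'⟩
        · simp [hz]
        · simp [h z hz]
      have := (Finset.card_le_card hsub).trans Finset.card_le_two
      rw [Finset.card_univ, ← Nat.card_eq_fintype_card] at this
      omega
    have haz : a ≠ z.1 := fun e => hza (Subtype.ext e.symm)
    have hyz : z.1 ≠ y.1 := fun e => hzy (Subtype.ext e)
    obtain ⟨g, hg, hg'⟩ := S.exists_swap haz
    obtain ⟨g', hg2, hg2'⟩ := S.exists_swap hyz
    refine ⟨⟨g' * g, Subgroup.mem_centralizer_iff.2 fun d hd => ?_⟩, ?_⟩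
    · have e1 := hinv haz ha' z.2 hg hg' d hd
      have e2 := hinv hyz z.2 y.2 hg2 hg2' d⁻¹ (inv_mem hd)
      rw [inv_inv] at e2
      rw [← e1] at e2
      calc d * (g' * g) = g' * (g * d * g) * g' * (g' * g) := by rw [e2]
        _ = g' * g * d * g * (g' * g') * g := by group
        _ = g' * g * d * (g * g) := by rw [hsq hyz hg2 hg2']; group
        _ = g' * g * d := by rw [hsq haz hg hg', mul_one]
    · show (g' * g) • a = y.1
      rw [mul_smul, hg, hg2]
  have horb : MulAction.orbit Y a = {z | ∀ d ∈ P, d • z = z} := by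
    ext z
    constructor
    · rintro ⟨g, rfl⟩ d hd
      show d • (g : G) • a = (g : G) • a
      rw [smul_smul, Subgroup.mem_centralizer_iff.1 g.2 d hd, mul_smul, ha' d hd]
    · intro hz
      obtain ⟨g, hg⟩ := hY ⟨z, hz⟩
      exact ⟨g, hg⟩
  have hodd : ¬ 2 ∣ Nat.card Φ := by
    intro h2
    haveI : Fact (Nat.Prime 2) := ⟨Nat.prime_two⟩
    have hdvd : Nat.card Φ ∣ Nat.card Y := by
      have h := MulAction.index_stabilizer Y a
      rw [horb, ← Nat.card_coe_set_eq] at h
      rw [show Nat.card Φ = (stabilizer Y a).index from h.symm]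
      exact Subgroup.index_dvd_card _
    obtain ⟨u, hu⟩ := exists_prime_orderOf_dvd_card' (G := Y) 2 (h2.trans hdvd)
    have hu2 : (u : G) * u = 1 := by
      rw [← Subgroup.coe_mul, ← sq, ← hu, pow_orderOf_eq_one, Subgroup.coe_one]
    have hu1 : (u : G) ≠ 1 := fun e => by
      rw [show u = 1 from Subtype.ext e, orderOf_one] at hu
      omega
    obtain ⟨z, hz⟩ : ∃ z : Φ, (u : G) • z.1 ≠ z.1 := by
      by_contra h
      push Not at h
      have : Nat.card Φ ≤ nfix Ω (u : G) := by
        unfold nfix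
        exact Nat.card_le_card_of_injective (fun z : Φ => ⟨z.1, h z⟩)
          fun y z e => Subtype.ext (congrArg Subtype.val e :)
      rw [S.nfix_invol hu2 hu1] at this
      omega
    have huz : ∀ d ∈ P, d • (u : G) • z.1 = (u : G) • z.1 := fun d hd => by
      rw [smul_smul, Subgroup.mem_centralizer_iff.1 u.2 d hd, mul_smul, z.2 d hd]
    obtain ⟨d, hd, hd1⟩ := (Subgroup.ne_bot_iff_exists_ne_one.1 hne) |> fun ⟨⟨d, hd⟩, h⟩ =>
      (⟨d, hd, fun e => h (Subtype.ext e)⟩ : ∃ d ∈ P, d ≠ 1)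
    have e := hinv (Ne.symm hz) z.2 huz rfl (by rw [smul_smul, hu2, one_smul]) d hd
    rw [← Subgroup.mem_centralizer_iff.1 u.2 d hd, mul_assoc, hu2, mul_one] at e
    refine S.odd_stab hi hab hd1 (ha' d hd) (hb' d hd) ?_
    nth_rewrite 1 [e]
    exact inv_mul_cancel d
  -- the swapping element permutes the fixed points
  have hss := hsq hab hs hs'
  have hmap : ∀ z : Φ, ∀ d ∈ P, d • s • z.1 = s • z.1 := by
    intro z d hd
    have e := hinv hab ha' hb' hs hs' d hd
    calc d • s • z.1 = (d * s) • z.1 := (mul_smul _ _ _).symm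
      _ = (s * d⁻¹) • z.1 := by
          rw [← e]
          congr 1
          calc d * s = (s * s) * d * s := by rw [hss, one_mul]
            _ = s * (s * d * s) := by group
      _ = s • z.1 := by rw [mul_smul, z.2 _ (inv_mem hd)]
  let σ : Equiv.Perm Φ :=
    ⟨fun z => ⟨s • z.1, hmap z⟩, fun z => ⟨s • z.1, hmap z⟩,
      fun z => Subtype.ext (by simp [smul_smul, hss]),
      fun z => Subtype.ext (by simp [smul_smul, hss])⟩
  haveI : Fact (Nat.Prime 2) := ⟨Nat.prime_two⟩
  obtain ⟨w, hw⟩ := Equiv.Perm.exists_fixed_point_of_prime (p := 2) (n := 1) (σ := σ)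
    (by rwa [← Nat.card_eq_fintype_card]) (by
      ext z
      simp [σ, sq, smul_smul, hss])
  exact ⟨w.1, congrArg Subtype.val hw, w.2⟩

/-- The Sylow subgroups of two-point stabilisers fix exactly two points. -/
theorem pPart_two_fixed (hi : S.i ≤ 1) {a b x : Ω} (hab : a ≠ b) (hax : a ≠ x) (hbx : b ≠ x)
    (hx : ∀ d ∈ S.pPart p hab, d • x = x) : S.pPart p hab = ⊥ := by
  classical
  by_contra hne
  -- every pair behaves in the same way
  have hall : ∀ {u v : Ω}, u ≠ v → ∀ {s : G}, s • u = v → s • v = u →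
      ∀ hu : u ≠ v, ∃ w : Ω, s • w = w ∧ ∀ d ∈ S.pPart p hu, d • w = w := by
    intro u v huv s hs hs' hu
    obtain ⟨g, hga, hgb⟩ := S.transport hab huv
    have hx' : ∀ d ∈ S.pPart p huv, d • g • x = g • x := by
      intro d hd
      have hm : g⁻¹ * d * g ∈ S.pPart p hab := by
        refine ⟨by rw [mul_smul, mul_smul, hga, hd.1, inv_smul_eq_iff, hga],
          by rw [mul_smul, mul_smul, hgb, hd.2.1, inv_smul_eq_iff, hgb], ?_⟩
        obtain ⟨k, hk⟩ := hd.2.2
        refine ⟨k, ?_⟩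
        rw [show g⁻¹ * d * g = g⁻¹ * d * g⁻¹⁻¹ by rw [inv_inv], conj_pow, hk, mul_one, mul_inv_cancel]
      have := hx _ hm
      rwa [mul_smul, mul_smul, inv_smul_eq_iff] at this
    refine S.swap_fixed hi huv (fun e => hax ?_) (fun e => hbx ?_) hx' ?_ hs hs'
    · exact MulAction.injective g (hga.trans e)
    · exact MulAction.injective g (hgb.trans e)
    · intro hbot
      have := S.card_pPart_eq (p := p) hab huv
      rw [hbot, Subgroup.card_bot] at this
      exact hne (Subgroup.eq_bot_of_card_eq _ this)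
  -- the point fixed by the involution
  obtain ⟨y, hy⟩ := S.exists_moved
  obtain ⟨a₀, ha₀, -⟩ := hall (Ne.symm hy) rfl (S.t_smul_smul y) (Ne.symm hy)
  have huniq : ∀ {u : G}, IsConj S.t u → ∀ {z w : Ω}, u • z = z → u • w = w → z = w := by
    intro u hu z w hz hw
    by_contra hzw
    have h1 := two_le_nfix hzw hz hw
    rw [nfix_of_isConj hu, S.hti] at h1
    omega
  have hinv : ∀ {u : G}, IsConj S.t u → u • a₀ = a₀ → ∀ (v : Ω) (hv : a₀ ≠ v),
      ∀ d ∈ S.pPart p hv, u * d * u = d⁻¹ := by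
    intro u hu hua v hv d hd
    have huv : u • v ≠ v := fun e => hv (huniq hu hua e)
    have huu : u * u = 1 := by
      obtain ⟨c, rfl⟩ := isConj_iff.1 hu
      calc c * S.t * c⁻¹ * (c * S.t * c⁻¹) = c * (S.t * S.t) * c⁻¹ := by group
        _ = 1 := by rw [S.t_sq]; group
    have huu' : u • u • v = v := by rw [smul_smul, huu, one_smul]
    obtain ⟨w, hw, hwP⟩ := hall (Ne.symm huv) rfl huu' (Ne.symm huv)
    obtain rfl : w = a₀ := huniq hu hw hua
    have e := S.pPart_eq_of_fix (Ne.symm huv) hv hwP fun d hd => hd.1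
    rw [← e] at hd
    exact S.swap_inv_pPart (Ne.symm huv) rfl huu' hd
  -- generators
  set gens : Set G := {d | ∃ (v : Ω) (hv : a₀ ≠ v), d ∈ S.pPart p hv} with hgens
  have hfix : ∀ d ∈ gens, d • a₀ = a₀ := fun d ⟨v, hv, hd⟩ => hd.1
  have hodd : ∀ d ∈ gens, d ≠ 1 → d * d ≠ 1 := fun d ⟨v, hv, hd⟩ h1 =>
    S.odd_stab hi hv h1 hd.1 hd.2.1
  have hcomm : ∀ d ∈ gens, ∀ e ∈ gens, e * d = d * e := by
    intro d hd e he
    obtain ⟨v, hv, hdv⟩ := hd
    obtain ⟨v', hv', hev⟩ := id he
    set u := e * S.t * e⁻¹ with hu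
    have hu' : IsConj S.t u := isConj_iff.2 ⟨e, rfl⟩
    have hua : u • a₀ = a₀ := by
      rw [hu, mul_smul, mul_smul, inv_smul_eq_iff.2 (hfix e he).symm, ha₀, hfix e he]
    have e1 := hinv (IsConj.refl S.t) ha₀ v hv d hdv
    have e2 := hinv hu' hua v hv d hdv
    have e3 := hinv (IsConj.refl S.t) ha₀ v' hv' e hev
    have hu2 : u = e * e * S.t := by
      rw [hu, ← e3]
      calc e * S.t * (S.t * e * S.t) = e * (S.t * S.t) * e * S.t := by group
        _ = e * e * S.t := by rw [S.t_sq, mul_one]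
    have hut : u * S.t = e * e := by rw [hu2, mul_assoc, S.t_sq, mul_one]
    have e4 : (e * e) * d = d * (e * e) := by
      have huu : u * u = 1 := by
        rw [hu]
        calc e * S.t * e⁻¹ * (e * S.t * e⁻¹) = e * (S.t * S.t) * e⁻¹ := by group
          _ = 1 := by rw [S.t_sq]; group
      have e5 : S.t * d⁻¹ * S.t = d := by
        rw [← e1]
        calc S.t * (S.t * d * S.t) * S.t = (S.t * S.t) * d * (S.t * S.t) := by group
          _ = d := by rw [S.t_sq, one_mul, mul_one]
      rw [← hut]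
      calc u * S.t * d = u * (S.t * d * S.t) * S.t := by
              calc u * S.t * d = u * S.t * d * (S.t * S.t) := by rw [S.t_sq, mul_one]
                _ = _ := by group
        _ = u * d⁻¹ * S.t := by rw [e1]
        _ = u * (u * d * u) * S.t := by rw [e2]
        _ = (u * u) * d * u * S.t := by group
        _ = d * (u * S.t) := by rw [huu, one_mul, mul_assoc]
    obtain ⟨-, he', k, hk⟩ := hev
    rcases eq_or_ne e 1 with rfl | he1
    · simp
    have hp2 : p ≠ 2 := by
      intro h2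
      subst h2
      have : ∀ k : ℕ, ∀ z : G, z • a₀ = a₀ → z • v' = v' → z ^ (2 ^ k) = 1 → z = 1 := by
        intro k
        induction k with
        | zero => intro z _ _ h; simpa using h
        | succ k ih =>
          intro z h1 h2 h3
          rw [pow_succ', pow_mul, sq] at h3
          have := ih (z * z) (by rw [mul_smul, h1, h1]) (by rw [mul_smul, h2, h2]) h3
          by_contra hz
          exact S.odd_stab hi hv' hz h1 h2 this
      exact he1 (this k e (hfix e he) he' hk)
    obtain ⟨m, hm⟩ := (hp.out.odd_of_ne_two hp2).pow (n := k)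
    have he2 : e = (e * e) ^ (m + 1) := by
      rw [← sq, ← pow_mul, show 2 * (m + 1) = p ^ k + 1 by omega, pow_succ, hk, one_mul]
    rw [he2]
    exact (Commute.pow_left e4 (m + 1)).eq
  set W := Subgroup.closure gens with hW
  have hWab : ∀ d ∈ W, ∀ e ∈ W, d * e = e * d := by
    have h1 : gens ⊆ centralizer gens := fun d hd =>
      Subgroup.mem_centralizer_iff.2 fun e he => hcomm d hd e he
    have h2 : W ≤ centralizer gens := (Subgroup.closure_le _).2 h1
    have h3 : W ≤ centralizer (W : Set G) := by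
      rw [hW, Subgroup.closure_le]
      intro d hd
      rw [SetLike.mem_coe, Subgroup.mem_centralizer_iff]
      intro w hw
      exact ((Subgroup.mem_centralizer_iff.1 (h2 hw)) d hd).symm
    exact fun d hd e he => (Subgroup.mem_centralizer_iff.1 (h3 he)) d hd
  have hWp : IsPGroup p W := by
    rintro ⟨w, hw⟩
    suffices h : ∃ k, w ^ (p ^ k) = 1 by
      obtain ⟨k, hk⟩ := h
      exact ⟨k, Subtype.ext (by rw [Subgroup.coe_pow]; exact hk)⟩
    induction hw using Subgroup.closure_induction with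
    | mem d hd => obtain ⟨v, hv, hd⟩ := hd; exact hd.2.2
    | one => exact ⟨0, one_pow _⟩
    | mul d e hd he ihd ihe =>
      obtain ⟨k, hk⟩ := ihd
      obtain ⟨l, hl⟩ := ihe
      refine ⟨k + l, ?_⟩
      rw [Commute.mul_pow (hWab d hd e he), pow_add, pow_mul, hk, one_pow, mul_comm (p ^ k),
        pow_mul, hl, one_pow, one_mul]
    | inv d hd ihd => obtain ⟨k, hk⟩ := ihd; exact ⟨k, by rw [inv_pow, hk, inv_one]⟩
  have hWfix : W ≤ stabilizer G a₀ := (Subgroup.closure_le _).2 hfix
  have hWinv : ∀ w ∈ W, S.t * w * S.t = w⁻¹ := by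
    intro w hw
    induction hw using Subgroup.closure_induction with
    | mem d hd => obtain ⟨v, hv, hd⟩ := hd; exact hinv (IsConj.refl S.t) ha₀ v hv d hd
    | one => rw [mul_one, S.t_sq, inv_one]
    | mul d e hd he ihd ihe =>
      rw [show S.t * (d * e) * S.t = S.t * d * (S.t * S.t) * e * S.t by rw [S.t_sq]; group]
      rw [show S.t * d * (S.t * S.t) * e * S.t = (S.t * d * S.t) * (S.t * e * S.t) by group, ihd,
        ihe, hWab _ (inv_mem hd) _ (inv_mem he), mul_inv_rev]
    | inv d hd ihd =>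
      have := congrArg (·⁻¹) ihd
      simp only [mul_inv_rev, inv_inv, inv_eq_of_mul_eq_one_right S.t_sq] at this
      rw [inv_inv, mul_assoc]
      exact this
  -- the centraliser of `t` normalises `W` and meets it trivially
  have hCfix : ∀ c ∈ S.C, c • a₀ = a₀ := fun c hc =>
    huniq (IsConj.refl S.t) (by rw [smul_smul, ← (S.mem_C.1 hc).eq, mul_smul, ha₀]) ha₀
  have hCgens : ∀ c ∈ S.C, ∀ d ∈ gens, c * d * c⁻¹ ∈ gens := by
    rintro c hc d ⟨v, hv, hd⟩
    refine ⟨c • v, fun e => hv (MulAction.injective c ((hCfix c hc).trans e)), ?_, ?_, ?_⟩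
    · rw [mul_smul, mul_smul, inv_smul_eq_iff.2 (hCfix c hc).symm, hd.1, hCfix c hc]
    · rw [mul_smul, mul_smul, inv_smul_smul, hd.2.1]
    · obtain ⟨k, hk⟩ := hd.2.2
      exact ⟨k, by rw [conj_pow, hk, mul_one, mul_inv_cancel]⟩
  set M := normalizer (W : Set G) ⊓ stabilizer G a₀ with hM
  have hCW : ∀ c ∈ S.C, ∀ w ∈ W, c * w * c⁻¹ ∈ W := by
    intro c hc w hw
    induction hw using Subgroup.closure_induction with
    | mem d hd => exact Subgroup.subset_closure (hCgens c hc d hd)
    | one => simp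
    | mul d e hd he ihd ihe =>
      rw [show c * (d * e) * c⁻¹ = (c * d * c⁻¹) * (c * e * c⁻¹) by group]
      exact mul_mem ihd ihe
    | inv d hd ihd =>
      rw [show c * d⁻¹ * c⁻¹ = (c * d * c⁻¹)⁻¹ by group]
      exact inv_mem ihd
  have hCM : S.C ≤ M := fun c hc => ⟨Subgroup.mem_normalizer_iff.2 fun w =>
    ⟨hCW c hc w, fun h => by
      have := hCW c⁻¹ (inv_mem hc) _ h
      rwa [show c⁻¹ * (c * w * c⁻¹) * c⁻¹⁻¹ = w by group] at this⟩, hCfix c hc⟩
  have hWM : W ≤ M := le_inf Subgroup.le_normalizer hWfix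
  haveI : (W.subgroupOf M).Normal :=
    Subgroup.normal_subgroupOf_iff_le_normalizer hWM |>.2 inf_le_left
  have hdis : ∀ w ∈ W, Commute w S.t → w = 1 := by
    intro w hw hwt
    have e := hWinv w hw
    rw [← hwt.eq, mul_assoc, S.t_sq, mul_one] at e
    have hww : w * w = 1 := by nth_rewrite 1 [e]; exact inv_mul_cancel w
    obtain ⟨k, hk⟩ := hWp ⟨w, hw⟩
    have hk' : w ^ (p ^ k) = 1 := congrArg Subtype.val hk
    obtain ⟨d, hd, hd1⟩ := (Subgroup.ne_bot_iff_exists_ne_one.1 hne) |> fun ⟨⟨d, hd⟩, h⟩ =>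
      (⟨d, hd, fun e => h (Subtype.ext e)⟩ : ∃ d ∈ S.pPart p hab, d ≠ 1)
    have hp2 : p ≠ 2 := by
      intro h2
      subst h2
      obtain ⟨n, hn⟩ := hd.2.2
      have h2d : 2 ∣ orderOf d := by
        obtain ⟨i, hi', e⟩ := (Nat.dvd_prime_pow Nat.prime_two).1 (orderOf_dvd_of_pow_eq_one hn)
        rcases i with _ | i
        · exact absurd (orderOf_eq_one_iff.1 e) hd1
        · exact ⟨2 ^ i, by rw [e, pow_succ']⟩
      obtain ⟨z, hz⟩ := h2d
      have hpos := orderOf_pos d
      refine S.odd_stab hi hab (d := d ^ z) (fun e => ?_) ?_ ?_ ?_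
      · have := orderOf_dvd_of_pow_eq_one e
        have := Nat.le_of_dvd (by omega) this
        omega
      · exact (pow_mem hd z).1
      · exact (pow_mem hd z).2.1
      · rw [← pow_add, ← two_mul, ← hz, pow_orderOf_eq_one]
    have h1 : orderOf w ∣ Nat.gcd 2 (p ^ k) :=
      Nat.dvd_gcd (orderOf_dvd_of_pow_eq_one (by rw [sq, hww])) (orderOf_dvd_of_pow_eq_one hk')
    rw [(Nat.coprime_two_left.2 ((hp.out.odd_of_ne_two hp2).pow)).gcd_eq_one] at h1
    exact orderOf_eq_one_iff.1 (Nat.dvd_one.1 h1)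
  let φ : S.C →* M ⧸ W.subgroupOf M :=
    (QuotientGroup.mk' (W.subgroupOf M)).comp (Subgroup.inclusion hCM)
  have hφ : Function.Injective φ := by
    rw [injective_iff_map_eq_one]
    intro c hc
    have h : Subgroup.inclusion hCM c ∈ W.subgroupOf M := (QuotientGroup.eq_one_iff _).1 hc
    have : (c : G) ∈ W := h
    exact Subtype.ext (hdis _ this (S.mem_C.1 c.2))
  have hdvd : Nat.card S.C * Nat.card W ∣ Nat.card (stabilizer G a₀) := by
    refine dvd_trans ?_ (Subgroup.card_dvd_of_le (inf_le_right : M ≤ stabilizer G a₀))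
    rw [Subgroup.card_eq_card_quotient_mul_card_subgroup (W.subgroupOf M),
      Nat.card_congr (Subgroup.subgroupOfEquivOfLe hWM).toEquiv]
    exact mul_dvd_mul_right (Subgroup.card_dvd_of_injective φ hφ) _
  -- the stabiliser of the fixed point
  obtain ⟨b₀, hb₀⟩ : ∃ b₀ : Ω, a₀ ≠ b₀ := by
    by_cases h : a₀ = a
    · exact ⟨b, h ▸ hab⟩
    · exact ⟨a, h⟩
  have horb : MulAction.orbit (stabilizer G a₀) b₀ = {a₀}ᶜ := by
    ext z
    constructor
    · rintro ⟨g, rfl⟩ e
      exact hb₀ (MulAction.injective (g : G) (g.2.trans (Set.mem_singleton_iff.1 e).symm))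
    · intro hz
      obtain ⟨g, h1, h2⟩ := S.transport hb₀ (Ne.symm (Set.mem_compl_singleton_iff.1 hz))
      exact ⟨⟨g, h1⟩, h2⟩
  have hcard : Nat.card (stabilizer G a₀) =
      Nat.card (stabilizer (stabilizer G a₀) b₀) * Nat.card S.C := by
    rw [← Subgroup.card_mul_index (stabilizer (stabilizer G a₀) b₀),
      MulAction.index_stabilizer, horb, Set.ncard_compl, Set.ncard_singleton, S.count.1]
    have h1 : 1 ≤ S.i := by
      rw [← S.hti]
      unfold nfix
      haveI : Nonempty {z : Ω // S.t • z = z} := ⟨⟨a₀, ha₀⟩⟩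
      exact Nat.card_pos
    rw [show S.i + Nat.card S.C - 1 = Nat.card S.C by omega]
  set D := stabilizer G a₀ ⊓ stabilizer G b₀ with hD
  have hDcard : Nat.card (stabilizer (stabilizer G a₀) b₀) = Nat.card D :=
    Nat.card_congr
      { toFun := fun g => ⟨g.1.1, g.1.2, g.2⟩
        invFun := fun g => ⟨⟨g.1, g.2.1⟩, g.2.2⟩
        left_inv := fun g => rfl
        right_inv := fun g => rfl }
  rw [hcard, hDcard, mul_comm (Nat.card D)] at hdvd
  have hWD : Nat.card W ∣ Nat.card D := Nat.dvd_of_mul_dvd_mul_left Nat.card_pos hdvd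
  obtain ⟨m, hm⟩ := IsPGroup.iff_card.1 hWp
  obtain ⟨Q, hQ⟩ := Sylow.exists_subgroup_card_pow_prime (G := D) p (hm ▸ hWD)
  have hQle : Q.map D.subtype ≤ S.pPart p hb₀ := by
    rintro _ ⟨q, hq, rfl⟩
    refine ⟨q.2.1, q.2.2, m, ?_⟩
    rw [← hQ]
    exact congrArg (fun z : D => (z : G)) (show q ^ Nat.card Q = 1 from
      congrArg Subtype.val (pow_card_eq_one' (x := (⟨q, hq⟩ : Q))))
  have hle : Nat.card W ≤ Nat.card (S.pPart p hb₀) := by
    rw [hm, ← hQ, ← Subgroup.card_map_of_injective D.subtype_injective]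
    exact Subgroup.card_le_of_le hQle
  have hWfixall : ∀ v : Ω, ∀ w ∈ W, w • v = v := by
    intro v w hw
    rcases eq_or_ne a₀ v with rfl | hv
    · exact hWfix hw
    have e : S.pPart p hv = W := Subgroup.eq_of_le_of_card_ge
      (fun d hd => Subgroup.subset_closure ⟨v, hv, hd⟩)
      (hle.trans (S.card_pPart_eq hb₀ hv).le)
    rw [← e] at hw
    exact hw.2.1
  have hWbot : S.pPart p hb₀ = ⊥ := by
    rw [Subgroup.eq_bot_iff_forall]
    intro d hd
    refine eq_of_smul_eq_smul (α := Ω) fun v => ?_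
    rw [one_smul]
    exact hWfixall v d (Subgroup.subset_closure ⟨b₀, hb₀, hd⟩)
  have := S.card_pPart_eq (p := p) hb₀ hab
  rw [hWbot, Subgroup.card_bot] at this
  exact hne (Subgroup.eq_bot_of_card_eq _ this.symm)

omit hp in
/-- Nothing fixes three points when the involution fixes at most one. -/
theorem free_of_le_one (hi : S.i ≤ 1) {g : G} {x b c : Ω} (hxb : x ≠ b) (hxc : x ≠ c)
    (hbc : b ≠ c) (hx : g • x = x) (hb : g • b = b) (hc : g • c = c) : g = 1 := by
  classical
  by_contra hg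
  obtain ⟨p, hp, hpdvd⟩ := Nat.exists_prime_and_dvd (mt orderOf_eq_one_iff.1 hg)
  haveI := Fact.mk hp
  obtain ⟨k, hk⟩ := hpdvd
  set d := g ^ k with hd
  have hfixd : ∀ z : Ω, g • z = z → d • z = z := fun z hz => by
    rw [hd]
    exact MulAction.mem_stabilizer_iff.1 (pow_mem (show g ∈ stabilizer G z from hz) k)
  have hdx := hfixd x hx
  have hdb := hfixd b hb
  have hdc := hfixd c hc
  have hdp : d ^ p = 1 := by rw [hd, ← pow_mul, mul_comm, ← hk, pow_orderOf_eq_one]
  have hd1 : d ≠ 1 := fun e => by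
    have h1 := Nat.le_of_dvd (Nat.pos_of_ne_zero fun h0 => by
      have := orderOf_pos g; rw [hk, h0, mul_zero] at this; omega) (orderOf_dvd_of_pow_eq_one e)
    have h2 := hp.two_le
    have h3 := orderOf_pos g
    rw [hk] at h1 h3
    nlinarith
  -- in the centraliser, the stabiliser of any fixed point is transitive on the others
  have key : ∀ {x b c : Ω}, x ≠ b → x ≠ c → d • x = x → d • b = b → d • c = c →
      ∃ h : G, Commute h d ∧ h • x = x ∧ h • b = c := by
    intro x b c hxb hxc hdx hdb hdc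
    set H := centralizer ({d} : Set G) ⊓ stabilizer G x with hH
    have hsyl : ∀ (v : Ω) (hv : x ≠ v), d • v = v →
        ∃ Q : Sylow p H, (Q : Subgroup H) = (S.pPart p hv).subgroupOf H ∧
          S.pPart p hv ≤ H := by
      intro v hv hdv
      have hne : S.pPart p hv ≠ ⊥ := fun h => hd1 (by
        have : d ∈ S.pPart p hv := ⟨hdx, hdv, 1, by rw [pow_one]; exact hdp⟩
        rwa [h, Subgroup.mem_bot] at this)
      have hle : S.pPart p hv ≤ H := fun e he =>
        ⟨Subgroup.mem_centralizer_singleton_iff.2 (S.stab_comm hv he.1 he.2.1 hdx hdv), he.1⟩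
      have hmax : ∀ R : Subgroup G, R ≤ stabilizer G x → IsPGroup p R → S.pPart p hv ≤ R →
          R = S.pPart p hv := by
        intro R hR hRp hPR
        by_contra hne'
        haveI : Group.IsNilpotent R := hRp.isNilpotent
        have hlt : (S.pPart p hv).subgroupOf R < ⊤ := lt_top_iff_ne_top.2 fun h =>
          hne' (le_antisymm (Subgroup.subgroupOf_eq_top.1 h) hPR)
        obtain ⟨e, heN, heP⟩ := SetLike.exists_of_lt (Group.normalizerCondition_of_isNilpotent _ hlt)
        have hconj : ∀ z ∈ S.pPart p hv, (e : G) * z * (e : G)⁻¹ ∈ S.pPart p hv := fun z hz => by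
          have := (Subgroup.mem_normalizer_iff.1 heN ⟨z, hPR hz⟩).1 hz
          exact this
        have hev : (e : G) • v = v := by
          by_contra hmove
          have hxv : x ≠ (e : G) • v := fun h => hv (MulAction.injective (e : G)
            ((show (e : G) • x = x from hR e.2).trans h))
          refine hne (S.pPart_two_fixed hi hv hxv (Ne.symm hmove) fun z hz => ?_)
          have h2 : (S.pPart p hv).map (MulAut.conj (e : G)).toMonoidHom = S.pPart p hv :=
            Subgroup.eq_of_le_of_card_ge (by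
                rintro _ ⟨y, hy, rfl⟩
                exact hconj y hy)
              (Subgroup.card_map_of_injective (MulAut.conj (e : G)).injective).ge
          rw [← h2] at hz
          obtain ⟨y, hy, rfl⟩ := hz
          show ((e : G) * y * (e : G)⁻¹) • (e : G) • v = (e : G) • v
          rw [mul_smul, inv_smul_smul, mul_smul, hy.2.1]
        obtain ⟨n, hn⟩ := hRp e
        exact heP (show (e : G) ∈ S.pPart p hv from
          ⟨hR e.2, hev, n, congrArg Subtype.val hn⟩)
      refine ⟨⟨(S.pPart p hv).subgroupOf H, (S.isPGroup_pPart hv).comap_subtype, ?_⟩, rfl, hle⟩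
      intro R hR hPR
      have h := hmax (R.map H.subtype) (by rintro _ ⟨r, -, rfl⟩; exact r.2.2) (hR.map _)
        (fun z hz => ⟨⟨z, hle hz⟩, hPR hz, rfl⟩)
      rw [← Subgroup.comap_map_eq_self_of_injective H.subtype_injective R, h]
      rfl
    obtain ⟨Qb, hQb, hleb⟩ := hsyl b hxb hdb
    obtain ⟨Qc, hQc, hlec⟩ := hsyl c hxc hdc
    obtain ⟨h, hh⟩ := MulAction.exists_smul_eq H Qb Qc
    refine ⟨(h : G), Subgroup.mem_centralizer_singleton_iff.1 h.2.1, h.2.2, ?_⟩
    by_contra hbc'
    have hxhb : x ≠ (h : G) • b := fun e => hxb (MulAction.injective (h : G)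
      ((show (h : G) • x = x from h.2.2).trans e))
    have hne : S.pPart p hxc ≠ ⊥ := fun h' => hd1 (by
      have : d ∈ S.pPart p hxc := ⟨hdx, hdc, 1, by rw [pow_one]; exact hdp⟩
      rwa [h', Subgroup.mem_bot] at this)
    refine hne (S.pPart_two_fixed hi hxc hxhb (Ne.symm hbc') fun z hz => ?_)
    have hz' : (⟨z, hlec hz⟩ : H) ∈ (Qc : Subgroup H) := by rw [hQc]; exact hz
    rw [← hh, Sylow.coe_subgroup_smul, ← SetLike.mem_coe, Subgroup.coe_pointwise_smul] at hz'
    obtain ⟨y, hy, hyz⟩ := hz'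
    rw [SetLike.mem_coe, hQb] at hy
    have hzy : z = (h : G) * (y : G) * (h : G)⁻¹ := (congrArg Subtype.val hyz).symm
    rw [hzy, mul_smul, inv_smul_smul, mul_smul, (show (y : G) • b = b from hy.2.1)]
  -- a swap in the centraliser
  obtain ⟨h₁, hc₁, hh₁c, hh₁x⟩ := key hxc.symm hbc.symm hdc hdx hdb
  have hy : d • h₁ • b = h₁ • b := by rw [smul_smul, ← hc₁.eq, mul_smul, hdb]
  have hyb : b ≠ h₁ • b := fun e => hxb (MulAction.injective h₁ (hh₁x.trans e))
  obtain ⟨h₂, hc₂, hh₂b, hh₂⟩ := key hyb hxb.symm hdb hy hdx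
  have hgx : (h₂ * h₁) • x = b := by rw [mul_smul, hh₁x, hh₂b]
  have hgb : (h₂ * h₁) • b = x := by rw [mul_smul, hh₂]
  have e := S.swap_inv (g := h₂ * h₁) (d := d) (x := x) (by rw [hgx]; exact hxb.symm)
    (by rw [hgx, hgb]) hdx (by rw [hgx, hdb])
  rw [(hc₂.mul_left hc₁).eq, mul_assoc, S.swap_sq (x := x) (by rw [hgx]; exact hxb.symm)
    (by rw [hgx, hgb]), mul_one] at e
  refine S.odd_stab hi hxb hd1 hdx hdb ?_
  nth_rewrite 1 [e]
  exact inv_mul_cancel d

end Setting

end CfsgLib.Perm.InvolutionFixity
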