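import Mathlib
import Cfsg.Prelude.Def_Sz
import Cfsg.Agent.Lib.Perm.InvolutionFixity.Large
import Cfsg.Agent.Lib.Perm.InvolutionFixity.Small
import Cfsg.Agent.Lib.Perm.ZassenhausNormal
import Cfsg.Agent.Lib.Perm.ZGroup.SuzukiUnique.Classify

/-!
# The classification
-/

set_option autoImplicit false
set_option linter.style.haveILetI false

namespace CfsgLib.Perm.InvolutionFixity

open MulAction Subgroup

variable {G Ω : Type*} [Group G] [MulAction G Ω] [Finite G] [Finite Ω] [FaithfulSMul G Ω]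

/-- `PSL(2, F)`, a Suzuki group, or a regular normal subgroup. -/
theorem classify (S : Setting G Ω) :
    (∃ (F : Type) (_ : Field F) (_ : Fintype F),
      Nonempty (G ≃* Matrix.ProjectiveSpecialLinearGroup (Fin 2) F)) ∨
    Cfsg.Lie.IsoSuzuki G ∨
    (∃ R : Subgroup G, R.Normal ∧ (∀ x y : Ω, ∃ r ∈ R, r • x = y) ∧
      ∀ x : Ω, ∀ r ∈ R, r • x = x → r = 1) := by
  classical
  rw [← or_assoc]
  refine or_iff_not_imp_right.2 fun hreg => ?_
  haveI : IsPretransitive G Ω := by
    haveI := S.h2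
    exact MulAction.isPretransitive_of_is_two_pretransitive
  obtain ⟨y, hy⟩ := S.exists_moved
  have hfree : ∀ g : G, ∀ a b c : Ω, a ≠ b → b ≠ c → a ≠ c → g • a = a → g • b = b → g • c = c →
      g = 1 := fun g a b c hab hbc hac ha hb hc => by
    rcases Nat.lt_or_ge S.i 2 with hi | hi
    · exact S.free_of_le_one (by omega) hab hac hbc ha hb hc
    · exact S.free_of_two_le hi hab hac hbc ha hb hc
  have hnoreg : ∀ N : Subgroup G, N.Normal → IsPretransitive N Ω →
      ∃ a : Ω, stabilizer N a ≠ ⊥ := by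
    intro N hN hNt
    by_contra h
    push Not at h
    refine hreg ⟨N, hN, fun x z => ?_, fun x r hr hrx => ?_⟩
    · obtain ⟨r, hr⟩ := MulAction.exists_smul_eq N x z
      exact ⟨r, r.2, hr⟩
    · have : (⟨r, hr⟩ : N) ∈ stabilizer N x := hrx
      rw [h x, Subgroup.mem_bot] at this
      exact congrArg Subtype.val this
  have htwo : ∃ g : G, g ≠ 1 ∧ ∃ a b : Ω, a ≠ b ∧ g • a = a ∧ g • b = b := by
    by_contra h
    push Not at h
    obtain ⟨K, hKn, -, hKt, hKr⟩ := CfsgLib.Perm.ZassenhausNormal.exists_kernel (G := G) y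
      fun g u v huv hu hv => by
        by_contra hg
        exact h g hg u v huv hu hv
    obtain ⟨a, ha⟩ := hnoreg K hKn hKt
    exact ha (hKr a)
  have hZ : Cfsg.IsZassenhausGroup G Ω := ⟨inferInstance, S.h2, hfree, htwo, hnoreg⟩
  haveI : Nontrivial G := ⟨⟨S.t, 1, S.t_ne⟩⟩
  haveI : IsSimpleGroup G := ⟨fun N hN => or_iff_not_imp_left.2 fun hN1 => by
    haveI := hN
    have hNZ := CfsgLib.Perm.ZassenhausNormal.normal_isZassenhaus hZ N hN1
    have h2N : ∀ {a b c d : Ω}, a ≠ b → c ≠ d → ∃ g : N, g • a = c ∧ g • b = d :=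
      is_two_pretransitive_iff.1 hNZ.2.1
    have hyt : y ≠ S.t • y := Ne.symm hy
    obtain ⟨s, hs, hs'⟩ := h2N hyt hyt.symm
    change (s : G) • y = S.t • y at hs
    change (s : G) • S.t • y = y at hs'
    have hmem : ∀ u : G, IsConj S.t u → u ∈ N := by
      obtain ⟨c, hc⟩ := isConj_iff.1
        (S.swap_conj (g := (s : G)) (x := y) (by rw [hs]; exact hy) (by rw [hs, hs']))
      have ht : S.t ∈ N := by
        have h1 := hN.conj_mem _ s.2 c⁻¹
        rw [← hc] at h1
        simpa [mul_assoc] using h1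
      intro u hu
      obtain ⟨e, rfl⟩ := isConj_iff.1 hu
      exact hN.conj_mem _ ht e
    rw [eq_top_iff]
    intro g _
    obtain ⟨m, hm, hm'⟩ := h2N hyt (fun e => hyt (MulAction.injective g e))
    change (m : G) • y = g • y at hm
    change (m : G) • S.t • y = g • S.t • y at hm'
    have hd : S.t * ((m : G)⁻¹ * g) ∈ N := by
      refine hmem _ (S.swap_conj (x := y) ?_ ?_)
      · rw [mul_smul, mul_smul, ← hm, inv_smul_smul]
        exact hy
      · have e1 : (S.t * ((m : G)⁻¹ * g)) • y = S.t • y := by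
          rw [mul_smul, mul_smul, ← hm, inv_smul_smul]
        rw [e1, mul_smul, mul_smul, ← hm', inv_smul_smul, S.t_smul_smul]
    have ht : S.t ∈ N := hmem _ (IsConj.refl _)
    have h1 := N.mul_mem m.2 (N.mul_mem (N.inv_mem ht) hd)
    rwa [inv_mul_cancel_left, mul_inv_cancel_left] at h1⟩
  exact CfsgLib.Perm.ZGroup.psl_or_isoSuzuki hZ

end CfsgLib.Perm.InvolutionFixity
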